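import Cfsg.Agent.Lib.Co2Recog.Edge.Cent
import Cfsg.Agent.Lib.Golay.OctadSpace

/-!
Tests on coded monomial elements, sign changes and a matrix.
-/

set_option autoImplicit false
set_option maxRecDepth 10000

noncomputable section

namespace Cfsg.Agent.Co2Recog.Edge

open Cfsg Cfsg.Agent.Golay Cfsg.Agent.Leech Cfsg.Agent.PermCert Cfsg.Agent.SporPerm Cfsg.Agent.LeechMod Cfsg.Agent.Golay.OctadSpace
open Cfsg.Agent.LeechOrbit (dec length_dec)
open Cfsg.Agent.Co1Out (el el_spec app axisL toVec_axisL forceN forceN_eq)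
open Cfsg.Agent.Co1Recog (toVec_dec)
open Cfsg.Agent.Co2Recog.Layers (Nst axOK axOK_spec monoOK elemOK uPair vecU_eq xCross_axis)
open scoped Pointwise

/-- A witness: permutation, signs, column and sign. -/
abbrev EWit : Type := (ℕ × ℕ) × ℕ × ℕ × Bool

/-- The code of the opposite vector. -/
def negCode (c : ℕ) : ℕ := pack 4 (fun i => 16 - PermCert.get 4 c i) 24

/-- The word is constant on the nonzero entries of each column. -/
def commOK (A : List ℕ) (X : ℕ) : Bool :=
  allBelow (fun i => allBelow (fun p =>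
    Nat.beq (PermCert.get 4 (A.getD i 0) p) 8 || (X.testBit p == X.testBit i)) 24) 24

/-- The permutation keeps the word. -/
def keepsOK (e : Elt) (X : ℕ) : Bool := allBelow (fun i => X.testBit (get 5 e.2 i) == X.testBit i) 24

/-- The witness moves the first column to a signed column. -/
def edgeOK (A : List ℕ) (g : EWit) : Bool :=
  elemOK g.1 g.2.1 && Nat.blt g.2.2.1 24 &&
    forceN (bif g.2.2.2 then negCode (A.getD g.2.2.1 0) else A.getD g.2.2.1 0) fun c =>
      allBelow (fun i => Nat.blt 0 (PermCert.get 4 c i)) 24 && monoOK (A.getD 23 0) c g.1 g.2.1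

theorem diag_comm {c : Co0} (a : golayCode)
    (h : ∀ p i : GolayPt, ((c • axis i : leechLattice) : GolayPt → ℤ) p ≠ 0 →
      (a : GolayPt → ZMod 2) p = (a : GolayPt → ZMod 2) i) :
    c * Leech.diag a = Leech.diag a * c := by
  refine co0_ext fun i => Subtype.ext (funext fun p => ?_)
  rw [mul_smul, mul_smul, diag_axis, ← hom0_apply c (_ • _), map_zsmul, hom0_apply, diag_apply]
  simp only [AddSubgroup.coe_zsmul, Pi.smul_apply, smul_eq_mul]
  by_cases hp : ((c • axis i : leechLattice) : GolayPt → ℤ) p = 0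
  · rw [hp, mul_zero, mul_zero]
  · rw [show sgn (a : GolayPt → ZMod 2) p = sgn (a : GolayPt → ZMod 2) i by unfold sgn; rw [h p i hp]]

theorem commOK_spec {M : List (List ℤ)} {A : List ℕ} (hm : matOK M = true) (hA : axOK M A = true) {X : ℕ}
    (hX : ofMask X ∈ golayCode) (h : commOK A X = true) :
    el M * Leech.diag ⟨ofMask X, hX⟩ = Leech.diag ⟨ofMask X, hX⟩ * el M := by
  refine diag_comm _ fun p i hp => ?_
  have h' := allBelow_spec _ _ (allBelow_spec _ _ h (idx i) (idx_lt i)) (idx p) (idx_lt p)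
  have e := congrFun (axOK_spec hm hA (idx_lt i)) p
  rw [toVec_dec, show pt ⟨idx i, idx_lt i⟩ = i from idx_injective (by rw [idx_pt])] at e
  simp only [Bool.or_eq_true, Nat.beq_eq, beq_iff_eq] at h'
  rcases h' with h' | h'
  · rw [h'] at e; exact absurd e.symm (by norm_num at hp ⊢; exact hp)
  · show ofMask X p = ofMask X i
    simp only [ofMask, h']

theorem mono_diag (a : M24 × golayCode) (b : golayCode) :
    mono a * Leech.diag b =
      Leech.diag ⟨moved (a.1 : Equiv.Perm GolayPt) b, moved_mem a.1.2 b.2⟩ * mono a := by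
  show mono a * mono (1, b) = mono (1, _) * mono a
  rw [mono_mul, mono_mul]
  congr 1
  refine Prod.ext ?_ (Subtype.ext (funext fun i => ?_)) <;>
    simp [pairMul, moved, Equiv.Perm.one_def, add_comm]

theorem moved_keeps {e : Elt} (hv : validElt 5 24 e = true) {X : ℕ} (h : keepsOK e X = true) :
    moved (permOf e) (ofMask X) = ofMask X := funext fun p => by
  have := allBelow_spec _ _ h (idx p) (idx_lt p)
  rw [beq_iff_eq] at this
  simp only [moved, ofMask, idx_permOf_symm hv, this]

theorem keeps_comm {e : Elt} (hv : validElt 5 24 e = true) (hM : permOf e ∈ M24) (s : golayCode) {X : ℕ}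
    (hX : ofMask X ∈ golayCode) (h : keepsOK e X = true) :
    mono (⟨permOf e, hM⟩, s) * Leech.diag ⟨ofMask X, hX⟩ =
      Leech.diag ⟨ofMask X, hX⟩ * mono (⟨permOf e, hM⟩, s) := by
  rw [mono_diag]
  congr 2
  exact Subtype.ext (moved_keeps hv h)

/-- The monomial element of a witness. -/
theorem elem_mono {e : Elt} {s : ℕ} (h : elemOK e s = true) :
    ∃ (hv : validElt 5 24 e = true) (hM : permOf e ∈ M24) (hs : ofMask s ∈ golayCode),
      mono (⟨permOf e, hM⟩, ⟨ofMask s, hs⟩) ∈ Nst ∧
      ∀ (m c : ℕ) (w v : leechLattice), toVec (dec 24 m) = (w : GolayPt → ℤ) →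
        toVec (dec 24 c) = (v : GolayPt → ℤ) → monoOK m c e s = true →
        mono (⟨permOf e, hM⟩, ⟨ofMask s, hs⟩) • w = v := by
  have h0 := h
  simp only [elemOK, Bool.and_eq_true] at h
  obtain ⟨⟨⟨hv, ha⟩, hc⟩, hfix⟩ := h
  refine ⟨hv, permOf_mem_M24 hv ha, ofMask_mem_golayCode hc,
    ⟨MulAction.mem_stabilizer_iff.2 (mono_smul_stdX _), MulAction.mem_stabilizer_iff.2 ?_⟩, fun m c w v hw hv' hmc => ?_⟩
  · refine Subtype.ext ((mono_smul _ _).trans (funext fun p => ?_))
    show sgn (ofMask s) p * Spor.vecU ((permOf e).symm p) = Spor.vecU p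
    have h := allBelow_spec _ _ hfix (idx p) (idx_lt p)
    simp only [Bool.and_eq_true, beq_iff_eq, Bool.not_eq_eq_eq_not, Bool.not_true] at h
    rw [vecU_eq, vecU_eq, idx_permOf_symm hv, h.1]
    cases hu : uPair.testBit (idx p)
    · simp
    · rw [hu, Bool.and_true] at h
      simp [sgn, ofMask, h.2]
  · refine Subtype.ext ((mono_smul _ _).trans (funext fun p => ?_))
    show sgn (ofMask s) p * (w : GolayPt → ℤ) ((permOf e).symm p) = (v : GolayPt → ℤ) p
    have h := allBelow_spec _ _ hmc (idx p) (idx_lt p)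
    simp only [forceN_eq, Nat.beq_eq] at h
    rw [← hw, ← hv', toVec_dec, toVec_dec, idx_permOf_symm hv, h]
    have : PermCert.get 4 m (get 5 e.2 (idx p)) < 16 := by
      unfold PermCert.get
      exact Nat.mod_lt _ (by norm_num)
    cases hs : s.testBit (idx p)
    · simp [sgn, ofMask, hs]
    · simp only [sgn, ofMask, hs, if_true, cond_true, one_ne_zero, if_false]
      omega

/-- A witness fixes the image of the base cross. -/
theorem edgeOK_spec {M : List (List ℤ)} {A : List ℕ} (hm : matOK M = true) (hA : axOK M A = true) {g : EWit}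
    (h : edgeOK A g = true) :
    ∃ (hv : validElt 5 24 g.1 = true) (hM : permOf g.1 ∈ M24) (hs : ofMask g.2.1 ∈ golayCode),
      mono (⟨permOf g.1, hM⟩, ⟨ofMask g.2.1, hs⟩) ∈ Nst ∧
      mono (⟨permOf g.1, hM⟩, ⟨ofMask g.2.1, hs⟩) • el M • stdX = el M • stdX := by
  simp only [edgeOK, forceN_eq, Bool.and_eq_true, Nat.blt_eq] at h
  obtain ⟨⟨he, hi⟩, hpos, hmo⟩ := h
  obtain ⟨hv, hM, hs, hN, hmove⟩ := elem_mono he
  refine ⟨hv, hM, hs, hN, ?_⟩
  have e0 := axOK_spec hm hA (show 23 < 24 by norm_num)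
  set j := pt ⟨g.2.2.1, hi⟩
  obtain ⟨v, hv', hvc⟩ : ∃ v : leechLattice, toVec (dec 24 (bif g.2.2.2 then negCode (A.getD g.2.2.1 0)
      else A.getD g.2.2.1 0)) = (v : GolayPt → ℤ) ∧ v ∈ el M • stdX := by
    cases hb : g.2.2.2
    · refine ⟨el M • axis j, axOK_spec hm hA hi, Set.smul_mem_smul_set ?_⟩
      rw [← xCross_axis j]; exact self_mem_xCross (ip_axis_self j)
    · refine ⟨el M • (-1 : ℤ) • axis j, funext fun p => ?_, Set.smul_mem_smul_set ?_⟩
      · have e := congrFun (axOK_spec hm hA hi) p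
        rw [toVec_dec] at e
        rw [cond_true, toVec_dec, negCode, get_pack _ _ _ _ (idx_lt p), ← hom0_apply (el M) (_ • _),
          map_zsmul, hom0_apply]
        have h16 : PermCert.get 4 (A.getD g.2.2.1 0) (idx p) < 16 := by
          unfold PermCert.get; exact Nat.mod_lt _ (by norm_num)
        have h0 := allBelow_spec _ _ hpos (idx p) (idx_lt p)
        rw [hb, cond_true, negCode, get_pack _ _ _ _ (idx_lt p), Nat.blt_eq] at h0
        rw [show (16 - PermCert.get 4 (A.getD g.2.2.1 0) (idx p)) % 2 ^ 4 =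
          16 - PermCert.get 4 (A.getD g.2.2.1 0) (idx p) from Nat.mod_eq_of_lt (by omega)]
        simp only [AddSubgroup.coe_zsmul, Pi.smul_apply, smul_eq_mul]
        rw [← e]
        omega
      · exact mem_xCross_axis.2 (mem_stdCross_iff.2 ⟨j, -1, Or.inr rfl, rfl⟩)
  have hX : el M • stdX = xCross (el M • axis (pt ⟨23, by norm_num⟩)) := by
    rw [← smul_xCross, xCross_axis]
  rw [hX, smul_xCross, hmove _ _ _ _ e0 hv' hmo]
  exact xCross_eq_of_mem (hX ▸ hvc)

end Cfsg.Agent.Co2Recog.Edge
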