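import Cfsg.Agent.Lib.Co2Recog.Layers.Basic
import Cfsg.Agent.Lib.Leech.Co1
import Mathlib

/-!
Elements fixing the vector which centralise enough sign changes and monomial elements are sign changes.
-/

set_option autoImplicit false
set_option maxRecDepth 10000

noncomputable section

namespace Cfsg.Agent.Co2Recog.Edge

open Cfsg Cfsg.Agent.Golay Cfsg.Agent.Leech Cfsg.Agent.PermCert
open Cfsg.Agent.Co2Recog.Layers (xCross_axis vecU_eq uPair)
open scoped Pointwise

/-- Two points have the same bits in all the words. -/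
def sameBits (B : List ℕ) (i j : ℕ) : Bool := B.all fun b => b.testBit i == b.testBit j

/-- The words separate the points up to the partners. -/
def sepOK (B mate : List ℕ) : Bool :=
  allBelow (fun i => allBelow (fun j => !sameBits B i j || Nat.beq j i || Nat.beq j (mate.getD i 24)) 24) 24

theorem axis_eq_of_supp {w : leechLattice} (h8 : ip w w = 8) {a b : GolayPt}
    (hz : ∀ q, q ≠ a → q ≠ b → (w : GolayPt → ℤ) q = 0) : (w : GolayPt → ℤ) ∈ stdCross := by
  have h := eight_ip_self w
  rw [h8] at h
  change (8 : ℤ) * 8 = ∑ q, (w : GolayPt → ℤ) q ^ 2 at h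
  have one : ∀ p : GolayPt, (∀ q, q ≠ p → (w : GolayPt → ℤ) q = 0) → (w : GolayPt → ℤ) ∈ stdCross := by
    intro p hp
    rw [Finset.sum_eq_single p (fun q _ hq => by rw [hp q hq]; norm_num) (by simp)] at h
    rcases sq_eq_sq_iff_eq_or_eq_neg.1 (show (w : GolayPt → ℤ) p ^ 2 = 8 ^ 2 by omega) with e | e
    · refine mem_stdCross_iff.2 ⟨p, 1, Or.inl rfl, Subtype.ext (funext fun q => ?_)⟩
      simp only [one_smul, coe_axis]
      rcases eq_or_ne q p with rfl | hq
      · rw [Pi.single_eq_same, e]
      · rw [hp q hq, Pi.single_eq_of_ne hq]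
    · refine mem_stdCross_iff.2 ⟨p, -1, Or.inr rfl, Subtype.ext (funext fun q => ?_)⟩
      simp only [AddSubgroup.coe_zsmul, Pi.smul_apply, smul_eq_mul, coe_axis]
      rcases eq_or_ne q p with rfl | hq
      · rw [Pi.single_eq_same, e]; norm_num
      · rw [hp q hq, Pi.single_eq_of_ne hq]; norm_num
  rcases eq_or_ne a b with rfl | hab
  · exact one a fun q hq => hz q hq hq
  rw [Finset.sum_eq_add a b hab (fun q _ hq => by rw [hz q hq.1 hq.2]; norm_num) (by simp) (by simp)] at h
  have hb : ∀ {x y : ℤ}, 64 = x ^ 2 + y ^ 2 → x = 0 ∨ y = 0 := by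
    intro x y hxy
    have h1 : -8 ≤ x := by nlinarith
    have h2 : x ≤ 8 := by nlinarith
    have h3 : -8 ≤ y := by nlinarith
    have h4 : y ≤ 8 := by nlinarith
    have hd : ∀ a b : Fin 17, ((a : ℕ) : ℤ) = 8 ∨ ((b : ℕ) : ℤ) = 8 ∨
        (((a : ℕ) : ℤ) - 8) ^ 2 + (((b : ℕ) : ℤ) - 8) ^ 2 ≠ 64 := by decide +kernel
    obtain ⟨n, hn⟩ := Int.eq_ofNat_of_zero_le (show 0 ≤ x + 8 by omega)
    obtain ⟨m, hm⟩ := Int.eq_ofNat_of_zero_le (show 0 ≤ y + 8 by omega)
    rcases hd ⟨n, by omega⟩ ⟨m, by omega⟩ with e | e | e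
    · exact Or.inl (by simp at e; omega)
    · exact Or.inr (by simp at e; omega)
    · refine absurd ?_ e
      simp only
      rw [show ((n : ℕ) : ℤ) - 8 = x by omega, show ((m : ℕ) : ℤ) - 8 = y by omega]
      exact hxy.symm
  rcases hb (by norm_num at h ⊢; exact h) with e | e
  · exact one b fun q hq => (eq_or_ne q a).elim (fun e' => e' ▸ e) fun hqa => hz q hqa hq
  · exact one a fun q hq => (eq_or_ne q b).elim (fun e' => e' ▸ e) fun hqb => hz q hq hqb

theorem mem_golay {b : ℕ} {B : List ℕ} (hB : (B.all fun b => inCode b) = true) (hb : b ∈ B) :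
    ofMask b ∈ golayCode := ofMask_mem_golayCode (List.all_eq_true.1 hB b hb)

theorem diag_axis (a : golayCode) (p : GolayPt) : Leech.diag a • axis p = sgn a p • axis p :=
  mono_axis _ _

theorem diag_apply (a : golayCode) (v : leechLattice) (q : GolayPt) :
    ((Leech.diag a • v : leechLattice) : GolayPt → ℤ) q = sgn a q * (v : GolayPt → ℤ) q := rfl

/-- An element commuting with the sign changes keeps each class of points. -/
theorem supp_image {B : List ℕ} (hB : (B.all fun b => inCode b) = true) {c : Co0}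
    (hc : ∀ b (hb : b ∈ B), c * Leech.diag ⟨ofMask b, mem_golay hB hb⟩ = Leech.diag ⟨ofMask b, mem_golay hB hb⟩ * c)
    (p q : GolayPt) (hq : ((c • axis p : leechLattice) : GolayPt → ℤ) q ≠ 0) :
    sameBits B (idx p) (idx q) = true := by
  refine List.all_eq_true.2 fun b hb => ?_
  set a : golayCode := ⟨ofMask b, mem_golay hB hb⟩
  have h : Leech.diag a • c • axis p = sgn a p • c • axis p := by
    rw [← mul_smul, ← hc b hb, mul_smul, diag_axis, ← hom0_apply c (_ • _), map_zsmul, hom0_apply]
  have h' := congrArg (fun v : leechLattice => (v : GolayPt → ℤ) q) h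
  simp only [diag_apply, AddSubgroup.coe_zsmul, Pi.smul_apply, smul_eq_mul] at h'
  have e := mul_right_cancel₀ hq h'
  change sgn (ofMask b) q = sgn (ofMask b) p at e
  simp only [sgn, ofMask] at e
  cases hp : b.testBit (idx p) <;> cases hq' : b.testBit (idx q) <;> simp [hp, hq'] at e ⊢

/-- Such an element is monomial and moves points only to their partners. -/
theorem monomial_of {B mate : List ℕ} (hB : (B.all fun b => inCode b) = true) (hsep : sepOK B mate = true)
    {c : Co0}
    (hc : ∀ b (hb : b ∈ B), c * Leech.diag ⟨ofMask b, mem_golay hB hb⟩ = Leech.diag ⟨ofMask b, mem_golay hB hb⟩ * c) :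
    ∃ a : M24 × golayCode, mono a = c ∧
      ∀ p, idx ((a.1 : Equiv.Perm GolayPt) p) = idx p ∨ idx ((a.1 : Equiv.Perm GolayPt) p) = mate.getD (idx p) 24 := by
  have key : ∀ p q, ((c • axis p : leechLattice) : GolayPt → ℤ) q ≠ 0 →
      idx q = idx p ∨ idx q = mate.getD (idx p) 24 := by
    intro p q hq
    have h := allBelow_spec _ _ (allBelow_spec _ _ hsep (idx p) (idx_lt p)) (idx q) (idx_lt q)
    rw [supp_image hB hc p q hq] at h
    simpa using h
  have hmem : ((c • axis none : leechLattice) : GolayPt → ℤ) ∈ stdCross := by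
    by_cases hex : ∃ q, ((c • axis none : leechLattice) : GolayPt → ℤ) q ≠ 0 ∧ q ≠ none
    · obtain ⟨q, hq, hqn⟩ := hex
      refine axis_eq_of_supp ((co0_ip _ _ _).trans (ip_axis_self none)) (a := none) (b := q)
        fun r hr hr' => ?_
      by_contra h
      rcases key none r h with e | e
      · exact hr (idx_injective e)
      rcases key none q hq with e' | e'
      · exact hqn (idx_injective e')
      · exact hr' (idx_injective (e.trans e'.symm))
    · push Not at hex
      exact axis_eq_of_supp ((co0_ip _ _ _).trans (ip_axis_self none)) (a := none) (b := none)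
        fun r hr _ => by_contra fun h => hr (hex r h)
  have hst : c ∈ crossStab := by
    refine MulAction.mem_stabilizer_iff.2 ?_
    show c • stdX = stdX
    rw [stdX, smul_xCross]
    exact xCross_eq_of_mem (mem_xCross_axis.2 hmem)
  obtain ⟨a, ha⟩ := fixesStd_iff.1 (mem_crossStab.1 hst)
  refine ⟨a, ha, fun p => key p _ ?_⟩
  rw [← ha, mono_axis]
  simp only [AddSubgroup.coe_zsmul, Pi.smul_apply, smul_eq_mul, coe_axis, Pi.single_eq_same]
  rcases sgn_cases (a.2 : GolayPt → ZMod 2) ((a.1 : Equiv.Perm GolayPt) p) with e | e <;> rw [e] <;> norm_num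

/-- A coded permutation is determined by two points, when the others stay or go to partners. -/
def swapsOK (mate : List ℕ) (cand : List Elt) (i j : ℕ) : Bool :=
  cand.all (fun e => validElt 5 24 e) &&
    allBelow (fun a => allBelow (fun b =>
      !((Nat.beq a i || Nat.beq a (mate.getD i 24)) && (Nat.beq b j || Nat.beq b (mate.getD j 24))) ||
        cand.any fun e => Nat.beq (get 5 e.1 i) a && Nat.beq (get 5 e.1 j) b &&
          allBelow (fun k => Nat.beq k i || Nat.beq k j || Nat.beq (mate.getD k 24) k ||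
            ((Nat.beq (mate.getD k 24) i || Nat.beq (mate.getD k 24) j) &&
              !Nat.beq (get 5 e.1 k) (get 5 e.1 (mate.getD k 24)) &&
              (Nat.beq (get 5 e.1 k) k || Nat.beq (get 5 e.1 k) (mate.getD k 24)))) 24 &&
          allBelow (fun k => !Nat.beq (mate.getD k 24) k || Nat.beq (get 5 e.1 k) k) 24) 24) 24 &&
    allBelow (fun k => Nat.beq (mate.getD (mate.getD k 24) 24) k) 24

theorem perm_eq_cand {mate : List ℕ} {cand : List Elt} {i j : Fin 24} (hsw : swapsOK mate cand i j = true)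
    {π : Equiv.Perm GolayPt} (hπ : ∀ p, idx (π p) = idx p ∨ idx (π p) = mate.getD (idx p) 24) :
    ∃ e ∈ cand, validElt 5 24 e = true ∧ π = permOf e := by
  simp only [swapsOK, Bool.and_eq_true, List.all_eq_true] at hsw
  have hinv := fun k hk => Nat.eq_of_beq_eq_true (allBelow_spec _ _ hsw.2 k hk)
  have h := allBelow_spec _ _ (allBelow_spec _ _ hsw.1.2 (idx (π (pt i))) (idx_lt _)) (idx (π (pt j))) (idx_lt _)
  have hi : (Nat.beq (idx (π (pt i))) i || Nat.beq (idx (π (pt i))) (mate.getD i 24)) = true := by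
    have := hπ (pt i); rw [idx_pt] at this; simpa using this
  have hj : (Nat.beq (idx (π (pt j))) j || Nat.beq (idx (π (pt j))) (mate.getD j 24)) = true := by
    have := hπ (pt j); rw [idx_pt] at this; simpa using this
  simp only [hi, hj, Bool.and_true, Bool.not_true, Bool.false_or, List.any_eq_true, Bool.and_eq_true,
    Nat.beq_eq] at h
  obtain ⟨e, he, ⟨⟨⟨hei, hej⟩, hrest⟩, hfix⟩⟩ := h
  have hv := hsw.1.1 e he
  refine ⟨e, he, hv, eq_permOf hv fun p => ?_⟩
  have hp := hπ p
  have h2 := allBelow_spec _ _ hrest (idx p) (idx_lt p)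
  have h3 := allBelow_spec _ _ hfix (idx p) (idx_lt p)
  simp only [Bool.or_eq_true, Bool.and_eq_true, Nat.beq_eq, Bool.not_eq_eq_eq_not, Bool.not_true] at h2 h3
  rcases h2 with ((h2 | h2) | h2) | ⟨⟨hm, hne⟩, hmv⟩
  · rw [show p = pt i from idx_injective (by rw [idx_pt]; exact h2), idx_pt, hei]
  · rw [show p = pt j from idx_injective (by rw [idx_pt]; exact h2), idx_pt, hej]
  · rw [h2, or_self] at hp
    rcases h3 with h3 | h3
    · exact absurd h2 (Nat.ne_of_beq_eq_false h3)
    · rw [h3, hp]
  · have hne' := Nat.ne_of_beq_eq_false hne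
    have step : ∀ (r : GolayPt), idx r = mate.getD (idx p) 24 → idx (π r) = get 5 e.1 (idx r) →
        idx (π p) = get 5 e.1 (idx p) := by
      intro r hr hr'
      have hpr : π p ≠ π r := fun e' => by
        rw [π.injective e'] at hne' hr; exact hne' (by rw [← hr])
      have h' : idx (π p) ≠ idx (π r) := fun e' => hpr (idx_injective e')
      rw [← hr] at hp hmv hne'
      have := hπ r
      rw [show mate.getD (idx r) 24 = idx p by rw [hr]; exact hinv _ (idx_lt p)] at this
      rcases hmv with m | m <;> rcases hp with q | q <;> omega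
    rcases hm with hm | hm
    · exact step (pt i) (by rw [idx_pt, hm]) (by rw [idx_pt, hei])
    · exact step (pt j) (by rw [idx_pt, hm]) (by rw [idx_pt, hej])

end Cfsg.Agent.Co2Recog.Edge
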