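import Cfsg.Agent.Lib.Co2Recog.Edge.Rel
import Cfsg.Agent.Lib.Co2Recog.Edge.Codes
import Cfsg.Agent.Lib.Co2Recog.Edge.Data
import Cfsg.Agent.Lib.Co2Recog.Model.Edge

/-!
Kernel checks on the data of the edge.
-/

set_option autoImplicit false
set_option maxRecDepth 20000
set_option Elab.async false

noncomputable section

namespace Cfsg.Agent.Co2Recog.Edge

open Cfsg Cfsg.Agent.Golay Cfsg.Agent.Leech Cfsg.Agent.PermCert Cfsg.Agent.SporPerm Cfsg.Agent.LeechMod
open Cfsg.Agent.Golay.OctadSpace
open Cfsg.Agent.LeechOrbit (dec)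
open Cfsg.Agent.Co1Out (el app axisL toVec_axisL length_axisL)
open Cfsg.Agent.Co1Recog (toVec_dec)
open Cfsg.Agent.Co2Recog.Layers (Nst axOK axOK_spec incl2 incl2_fix N2 liftU incl2_lift xCross_axis elemOK)
open Cfsg.Agent.Co2Graph (sigMat sigCols sigOK sigma2 sigma2_sq sigma2_mem C2 incl2_t2)
open scoped Pointwise

/-- A coded element in both centralisers fixing the edge. -/
def fixOK (g : EWit) : Bool := edgeOK sAx g && keepsOK g.1 E8Cent.xMask && keepsOK g.1 xW

/-- An entry of the table of octads. -/
def octOK (m : ℕ × EWit × EWit) : Bool :=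
  edgeOK sAx m.2.1 && edgeOK sAx m.2.2 && (keepsOK m.2.1.1 E8Cent.xMask || keepsOK m.2.1.1 xW) &&
    (keepsOK m.2.2.1 E8Cent.xMask || keepsOK m.2.2.1 xW) &&
    allBelow (fun i => E8Cent.oMask.testBit (get 5 m.2.2.1.2 (get 5 m.2.1.1.2 i)) == m.1.testBit i) 24

/-- A column has a nonzero entry at a point. -/
def nzAt (j i : ℕ) : Bool := !Nat.beq (PermCert.get 4 (sAx.getD j 0) i) 8

/-- The support of a column and another one is an octad of the table. -/
def unionOK (a : ℕ) : Bool :=
  allBelow (fun j1 => allBelow (fun j2 => !(nzAt j1 a && !nzAt j2 a) ||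
    octW.any fun m => allBelow (fun i => m.1.testBit i == (nzAt j1 i || nzAt j2 i)) 24) 24) 24

/-- The octad is the union of two supports. -/
def octadSupp : Bool :=
  allBelow (fun i => E8Cent.oMask.testBit i == (nzAt 23 i || nzAt offPt i)) 24

/-- A word with an axis of three steps. -/
def threeOK : Bool :=
  let D := fun v : List ℤ => (List.range 24).map fun i => (if rW.testBit i then -1 else 1) * v.getD i 0
  let s := fun v : List ℤ => app sigMat (D v)
  eqV (s (s (s (axisL 23)))) ((axisL r3End.1).map fun x => (if r3End.2 then -1 else 1) * x)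

theorem ax_ok : axOK sigMat sAx = true := by decide +kernel

theorem comm_checks : (inCode xW && inCode rW && !rW.testBit 23 && !rW.testBit 0 &&
    !xW.testBit 23 && !xW.testBit 0 && commOK sAx xW &&
    elemOK tauE 0 && allBelow (fun i => E8Cent.xMask.testBit (get 5 tauE.2 i) == xW.testBit i) 24 &&
    fixedW.all (fun a => inCode a && commOK sAx a)) = true := by decide +kernel

theorem wit_checks : (evenB.all fixOK && fixGens.all fixOK && octW.all octOK) = true := by decide +kernel

theorem sep_check : (sepOK (evenB.map fun g => g.2.1) mateL &&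
    swapsOK mateL swapE swapPts.1 swapPts.2 &&
    swapE.tail.all (fun e => !isAutB e) &&
    allBelow (fun i => Nat.beq (get 5 (swapE.headD (0, 0)).1 i) i) 24) = true := by decide +kernel

theorem fixed_check : (codeList.all fun m => m.testBit 23 || m.testBit 0 || fixedW.contains m ||
    fixGens.any fun g => !keepsOK g.1 m) = true := by decide +kernel

theorem supp_check : (octadSupp && unionOK 23 && unionOK 0 && nzAt 23 23 && !nzAt offPt 23 && !nzAt offPt 0 &&
    nzAt 23 0 && threeOK) = true := by decide +kernel

end Cfsg.Agent.Co2Recog.Edge
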