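import Cfsg.Agent.Lib.Co2Recog.Edge.Model
import Cfsg.Agent.Lib.Co2Recog.Model.Cert
import Cfsg.Agent.Lib.Leech.SporGroups

/-!
From the two sides of the amalgam to an injective map of the second Conway group.
-/

set_option autoImplicit false
set_option maxRecDepth 20000

namespace Cfsg.Agent.Co2Recog.Edge

open Cfsg Subgroup
open Cfsg.Agent.Co2Recog.Layers (N2)
open Cfsg.Agent.Co2Graph (C2 sigma2 sigma2_mem)

/-- **The map of the whole group** from the two sides. -/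
theorem exists_phi {G : Type*} [Group G] (z : G) (hz : z ≠ 1) (fN : ↥N2 →* G) (fC : ↥C2 →* G)
    (hinj : Function.Injective fC) (hrange : fC.range = centralizer ({z} : Set G))
    (hag : ∀ (a : ↥Spor.Co2) (hC : a ∈ C2) (hN : a ∈ N2), fC ⟨a, hC⟩ = fN ⟨a, hN⟩)
    (hzN : fN ⟨E8Cent.t2, edgeModel.tN⟩ = z) :
    ∃ φ : ↥Spor.Co2 →* G, Function.Injective φ ∧ φ E8Cent.t2 = z ∧
      (∀ g, g * φ E8Cent.t2 = φ E8Cent.t2 * g → g ∈ φ.range) ∧
      (∀ c : ↥C2, φ c = fC c) ∧ ∀ n : ↥N2, φ n = fN n := by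
  obtain ⟨φ, hC, hN⟩ := Co1Amalgam.exists_extension Co2Graph.graphCert fN fC hag fun k hk hk' =>
    edge_rel edgeModel fN fC hinj hzN hrange.ge hag sigma2_mem k hk hk'
  have h1 : φ E8Cent.t2 = z := (hN ⟨E8Cent.t2, edgeModel.tN⟩).trans hzN
  refine ⟨φ, ?_, h1, fun g hg => ?_, hC, hN⟩
  · haveI : IsSimpleGroup ↥Spor.Co2 := Leech.isCo2_spor.1
    rw [← MonoidHom.ker_eq_bot_iff]
    rcases φ.normal_ker.eq_bot_or_eq_top with e | e
    · exact e
    · refine absurd ?_ hz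
      rw [← h1]
      exact MonoidHom.mem_ker.1 (e ▸ mem_top _)
  · rw [h1] at hg
    obtain ⟨x, hx⟩ := hrange.ge (mem_centralizer_singleton_iff.2 hg)
    exact ⟨x, (hC x).trans hx⟩

end Cfsg.Agent.Co2Recog.Edge
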