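import Cfsg.Agent.Lib.Co2Recog.Edge.Rel
import Cfsg.Agent.Lib.Co2Recog.Edge.Codes
import Cfsg.Agent.Lib.Co2Recog.Edge.Checks
import Cfsg.Agent.Lib.Co2Recog.Model.Edge

/-!
The edge of the sextet involution in the model: a second conjugate of the octad involution, the difference
of the two extensions, and generation of the stabiliser of the edge.
-/

set_option autoImplicit false
set_option maxRecDepth 20000
set_option Elab.async false

noncomputable section

namespace Cfsg.Agent.Co2Recog.Edge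

open Cfsg Cfsg.Agent.Golay Cfsg.Agent.Leech Cfsg.Agent.PermCert Cfsg.Agent.SporPerm Cfsg.Agent.LeechMod
open Cfsg.Agent.Golay.OctadSpace
open Cfsg.Agent.LeechOrbit (dec)
open Cfsg.Agent.Co1Out (el app axisL toVec_axisL length_axisL)
open Cfsg.Agent.Co1Recog (toVec_dec)
open Cfsg.Agent.Co2Recog.Layers (Nst axOK axOK_spec incl2 incl2_fix N2 liftU incl2_lift xCross_axis elemOK)
open Cfsg.Agent.Co2Graph (sigMat sigCols sigOK sigma2 sigma2_sq sigma2_mem C2 incl2_t2)
open scoped Pointwise

attribute [local irreducible] sigMat sigCols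

attribute [local irreducible] sAx evenB fixGens octW fixedW swapE

theorem incl2_inj : Function.Injective incl2 := Subgroup.inclusion_injective _

theorem sig_mat : matOK sigMat = true := sigOK.1

/-- The element, not to be unfolded. -/
def sS : Co0 := (⟨el sigMat, rfl⟩ : ∃ S : Co0, S = el sigMat).choose

theorem sS_eq : sS = el sigMat := (⟨el sigMat, rfl⟩ : ∃ S : Co0, S = el sigMat).choose_spec

theorem sS_ax {i : ℕ} (hi : i < 24) :
    toVec (dec 24 (sAx.getD i 0)) = ((sS • axis (pt ⟨i, hi⟩) : leechLattice) : GolayPt → ℤ) := by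
  rw [sS_eq]; exact axOK_spec sig_mat ax_ok hi

theorem sS_comm {X : ℕ} (hX : ofMask X ∈ golayCode) (h : commOK sAx X = true) :
    sS * Leech.diag ⟨ofMask X, hX⟩ = Leech.diag ⟨ofMask X, hX⟩ * sS := by
  rw [sS_eq]; exact commOK_spec sig_mat ax_ok hX h

theorem sS_edge {g : EWit} (h : edgeOK sAx g = true) :
    ∃ (hv : validElt 5 24 g.1 = true) (hM : permOf g.1 ∈ M24) (hs : ofMask g.2.1 ∈ golayCode),
      mono (⟨permOf g.1, hM⟩, ⟨ofMask g.2.1, hs⟩) ∈ Nst ∧
      mono (⟨permOf g.1, hM⟩, ⟨ofMask g.2.1, hs⟩) • sS • stdX = sS • stdX := by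
  rw [sS_eq]; exact edgeOK_spec sig_mat ax_ok h

theorem sS_app {l : List ℤ} {v : leechLattice} (hl : l.length = 24) (hv : toVec l = (v : GolayPt → ℤ)) :
    toVec (app sigMat l) = ((sS • v : leechLattice) : GolayPt → ℤ) := by
  rw [sS_eq]; exact Co2Graph.sig_eq hl hv

theorem sig_incl : incl2 sigma2 = sS :=
  (incl2_lift (el sigMat) Co2Graph.sig_fixU).trans sS_eq.symm

theorem sig_sq' : sS * sS = 1 := by
  rw [← sig_incl, ← map_mul, sigma2_sq, map_one]

theorem sig_inv : sS⁻¹ = sS := inv_eq_of_mul_eq_one_right sig_sq'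

/-- A sign change fixes the vector when its word vanishes on the pair. -/
theorem diag_fixU {X : ℕ} (hX : ofMask X ∈ golayCode) (h23 : X.testBit 23 = false) (h0 : X.testBit 0 = false) :
    Leech.diag ⟨ofMask X, hX⟩ • Spor.leechU = Spor.leechU := by
  refine Subtype.ext (funext fun p => ?_)
  rw [diag_apply]
  show sgn (ofMask X) p * Spor.vecU p = Spor.vecU p
  by_cases hp : p = none ∨ p = some 0
  · have : X.testBit (idx p) = false := by
      rcases hp with rfl | rfl
      · rw [show idx none = 23 from Layers.idx_pair.1]; exact h23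
      · rw [show idx (some 0) = 0 from Layers.idx_pair.2]; exact h0
    simp [sgn, ofMask, this]
  · push Not at hp
    rw [Layers.vecU_outside p hp.1 hp.2, mul_zero]

theorem t0_eq : E8Cent.t0 = Leech.diag E8Cent.xWord := rfl

theorem oX : ∀ p : GolayPt, E8Cent.oMask.testBit (idx p) = !E8Cent.xMask.testBit (idx p) := by decide +kernel

theorem mem_eStab_of {k : ↥Spor.Co2} (h : incl2 k • stdX = stdX)
    (h' : incl2 k • sS • stdX = sS • stdX) : k ∈ eStab N2 sigma2 := by
  refine mem_eStab.2 ⟨MulAction.mem_stabilizer_iff.2 h, ?_⟩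
  show incl2 _ ∈ crossStab
  refine MulAction.mem_stabilizer_iff.2 ?_
  show incl2 (sigma2⁻¹ * k * sigma2) • stdX = stdX
  rw [map_mul, map_mul, map_inv, sig_incl, mul_smul, mul_smul, h', inv_smul_smul]

/-- A coded witness in the group. -/
theorem wit_spec {g : EWit} (h : edgeOK sAx g = true) :
    ∃ (hv : validElt 5 24 g.1 = true) (hM : permOf g.1 ∈ M24) (hs : ofMask g.2.1 ∈ golayCode),
      ∃ w : ↥Spor.Co2, incl2 w = mono (⟨permOf g.1, hM⟩, ⟨ofMask g.2.1, hs⟩) ∧ w ∈ eStab N2 sigma2 := by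
  obtain ⟨hv, hM, hs, hN, hfix⟩ := sS_edge h
  refine ⟨hv, hM, hs, liftU _ (MulAction.mem_stabilizer_iff.1 hN.2), rfl, mem_eStab_of ?_ ?_⟩
  · rw [incl2_lift]; exact MulAction.mem_stabilizer_iff.1 hN.1
  · rw [incl2_lift]; exact hfix

theorem xW_mem : ofMask xW ∈ golayCode := by
  have h := comm_checks
  simp only [Bool.and_eq_true] at h
  exact ofMask_mem_golayCode h.1.1.1.1.1.1.1.1.1

/-- The second involution. -/
def xElt : ↥Spor.Co2 := liftU (Leech.diag ⟨ofMask xW, xW_mem⟩) (by
  have h := comm_checks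
  simp only [Bool.and_eq_true, Bool.not_eq_eq_eq_not, Bool.not_true] at h
  exact diag_fixU xW_mem h.1.1.1.1.1.2 h.1.1.1.1.2)

theorem incl2_x : incl2 xElt = Leech.diag ⟨ofMask xW, xW_mem⟩ := rfl

theorem comm_of_incl {a b : ↥Spor.Co2} (h : incl2 a * incl2 b = incl2 b * incl2 a) : a * b = b * a :=
  incl2_inj (by rw [map_mul, map_mul, h])

/-- Commuting with one of the involutions, from the permutation. -/
theorem comm_keeps {w : ↥Spor.Co2} {e : Elt} {hM : permOf e ∈ M24} {s : golayCode}
    (hw : incl2 w = mono (⟨permOf e, hM⟩, s)) (hv : validElt 5 24 e = true) :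
    (keepsOK e E8Cent.xMask = true → w * E8Cent.t2 = E8Cent.t2 * w) ∧
      (keepsOK e xW = true → w * xElt = xElt * w) :=
  ⟨fun h => comm_of_incl (by rw [hw, incl2_t2, t0_eq]; exact keeps_comm hv hM s _ h),
    fun h => comm_of_incl (by rw [hw, incl2_x]; exact keeps_comm hv hM s _ h)⟩

/-- An element keeping the octad commutes with the involution. -/
theorem t0_comm_of_octad (a : M24 × golayCode)
    (h : ∀ p, E8Cent.oMask.testBit (idx ((a.1 : Equiv.Perm GolayPt).symm p)) = E8Cent.oMask.testBit (idx p)) :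
    mono a * E8Cent.t0 = E8Cent.t0 * mono a := by
  rw [t0_eq, mono_diag]
  congr 2
  refine Subtype.ext (funext fun p => ?_)
  show ofMask E8Cent.xMask ((a.1 : Equiv.Perm GolayPt).symm p) = ofMask E8Cent.xMask p
  have hp := h p
  rw [oX, oX] at hp
  simp only [ofMask]
  cases h1 : E8Cent.xMask.testBit (idx ((a.1 : Equiv.Perm GolayPt).symm p)) <;>
    cases h2 : E8Cent.xMask.testBit (idx p) <;> simp [h1, h2] at hp ⊢

/-- The value at a point of a column. -/
theorem col_nz {j : ℕ} (hj : j < 24) (p : GolayPt) :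
    ((sS • axis (pt ⟨j, hj⟩) : leechLattice) : GolayPt → ℤ) p ≠ 0 ↔ nzAt j (idx p) = true := by
  rw [← sS_ax hj, toVec_dec]
  simp only [nzAt, Bool.not_eq_true', ← Bool.not_eq_true, Nat.beq_eq]
  omega

set_option maxHeartbeats 1600000 in
/-- An element fixing the edge takes the octad to an octad of the table. -/
theorem octad_image {k : ↥Spor.Co2} (hk : k ∈ eStab N2 sigma2) :
    ∃ a : M24 × golayCode, mono a = incl2 k ∧ ∃ m ∈ octW,
      ∀ p, E8Cent.oMask.testBit (idx ((a.1 : Equiv.Perm GolayPt).symm p)) = m.1.testBit (idx p) := by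
  obtain ⟨hkN, hk'⟩ := mem_eStab.1 hk
  obtain ⟨a, ha⟩ := fixesStd_iff.1 (mem_crossStab.1 (show incl2 k ∈ crossStab from hkN))
  refine ⟨a, ha, ?_⟩
  have hfix : incl2 k • sS • stdX = sS • stdX := by
    have h : incl2 (sigma2⁻¹ * k * sigma2) • stdX = stdX :=
      MulAction.mem_stabilizer_iff.1 (show incl2 (sigma2⁻¹ * k * sigma2) ∈ crossStab from hk')
    rw [map_mul, map_mul, map_inv, sig_incl, mul_smul, mul_smul, inv_smul_eq_iff] at h
    exact h
  have himg : ∀ i : ℕ, ∀ hi : i < 24, ∃ j < 24, ∀ p,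
      nzAt j (idx ((a.1 : Equiv.Perm GolayPt) p)) = nzAt i (idx p) := by
    intro i hi
    have hin : incl2 k • sS • axis (pt ⟨i, hi⟩) ∈ sS • stdX := by
      rw [← hfix]
      refine Set.smul_mem_smul_set (Set.smul_mem_smul_set ?_)
      rw [← xCross_axis (pt ⟨i, hi⟩)]; exact self_mem_xCross (ip_axis_self _)
    obtain ⟨w, hw, e⟩ := hin
    obtain ⟨q, s, hs, rfl⟩ := mem_stdCross_iff.1 (mem_xCross_axis.1 hw)
    refine ⟨idx q, idx_lt q, fun p => Bool.eq_iff_iff.2 ?_⟩
    rw [← col_nz (idx_lt q), ← col_nz hi, show pt ⟨idx q, idx_lt q⟩ = q from idx_injective (by rw [idx_pt])]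
    have h := congrArg (fun v : leechLattice => (v : GolayPt → ℤ) ((a.1 : Equiv.Perm GolayPt) p)) e
    simp only [← ha, mono_smul, monoFun, Equiv.symm_apply_apply] at h
    rw [← hom0_apply sS (_ • _), map_zsmul, hom0_apply, AddSubgroup.coe_zsmul, Pi.smul_apply,
      smul_eq_mul] at h
    rcases hs with rfl | rfl <;> rcases sgn_cases (a.2 : GolayPt → ZMod 2) ((a.1 : Equiv.Perm GolayPt) p)
      with e' | e' <;> rw [e'] at h <;> omega
  have hs := supp_check
  simp only [Bool.and_eq_true, Bool.not_eq_eq_eq_not, Bool.not_true] at hs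
  obtain ⟨⟨⟨⟨⟨⟨⟨hoct, hu23⟩, hu0⟩, h2323⟩, hoff23⟩, hoff0⟩, h230⟩, -⟩ := hs
  obtain ⟨j1, hj1, e1⟩ := himg 23 (by norm_num)
  obtain ⟨j2, hj2, e2⟩ := himg offPt (by decide)
  set b := idx ((a.1 : Equiv.Perm GolayPt) none) with hb
  have hbpair : b = 23 ∨ b = 0 := by
    have hU := congrArg (fun v : leechLattice => (v : GolayPt → ℤ) ((a.1 : Equiv.Perm GolayPt) none))
      (incl2_fix k)
    simp only [← ha, mono_smul, monoFun, Equiv.symm_apply_apply] at hU
    by_contra hne
    push Not at hne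
    have hz : Spor.vecU ((a.1 : Equiv.Perm GolayPt) none) = 0 :=
      Layers.vecU_outside _ (fun e => hne.1 (by rw [hb, e]; exact Layers.idx_pair.1))
        (fun e => hne.2 (by rw [hb, e]; exact Layers.idx_pair.2))
    change sgn _ _ * Spor.vecU none = Spor.vecU _ at hU
    rw [hz, show Spor.vecU none = 4 by decide +kernel] at hU
    rcases sgn_cases (a.2 : GolayPt → ZMod 2) ((a.1 : Equiv.Perm GolayPt) none) with e | e <;> rw [e] at hU <;>
      norm_num at hU
  have hjb : nzAt j1 b = true := by rw [hb, e1, Layers.idx_pair.1]; exact h2323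
  have hjb2 : nzAt j2 b = false := by rw [hb, e2, Layers.idx_pair.1]; exact hoff23
  have hun : unionOK b = true := by rcases hbpair with e | e <;> rw [e] <;> assumption
  have hun' := allBelow_spec _ _ (allBelow_spec _ _ hun j1 hj1) j2 hj2
  simp only [hjb, hjb2, Bool.not_false, Bool.and_self, Bool.not_true, Bool.false_or, List.any_eq_true] at hun'
  obtain ⟨m, hm, hmi⟩ := hun'
  refine ⟨m, hm, fun p => ?_⟩
  obtain ⟨q, rfl⟩ := (a.1 : Equiv.Perm GolayPt).surjective p
  have h1 := allBelow_spec _ _ hoct (idx q) (idx_lt q)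
  have h2 := allBelow_spec _ _ hmi (idx ((a.1 : Equiv.Perm GolayPt) q)) (idx_lt _)
  rw [beq_iff_eq] at h1 h2
  rw [Equiv.symm_apply_apply, h1, h2, e1, e2]

theorem gen_eStab : eStab N2 sigma2 ≤ Subgroup.closure {k | k ∈ eStab N2 sigma2 ∧
    (k * E8Cent.t2 = E8Cent.t2 * k ∨ k * xElt = xElt * k)} := by
  intro k hk
  obtain ⟨a, ha, m, hm, hmO⟩ := octad_image hk
  have hw := wit_checks
  simp only [Bool.and_eq_true, List.all_eq_true] at hw
  have hmm := hw.2 m hm
  simp only [octOK, Bool.and_eq_true, Bool.or_eq_true] at hmm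
  obtain ⟨⟨⟨⟨hg, hh⟩, hgk⟩, hhk⟩, himg⟩ := hmm
  obtain ⟨hvg, hMg, hsg, wg, hwg, hwgE⟩ := wit_spec hg
  obtain ⟨hvh, hMh, hsh, wh, hwh, hwhE⟩ := wit_spec hh
  set k' := (wg * wh)⁻¹ * k
  have hk' : k' ∈ eStab N2 sigma2 := mul_mem (inv_mem (mul_mem hwgE hwhE)) hk
  have mem : ∀ {w : ↥Spor.Co2}, w ∈ eStab N2 sigma2 → (w * E8Cent.t2 = E8Cent.t2 * w ∨ w * xElt = xElt * w) →
      w ∈ Subgroup.closure {k | k ∈ eStab N2 sigma2 ∧ (k * E8Cent.t2 = E8Cent.t2 * k ∨ k * xElt = xElt * k)} :=
    fun h1 h2 => Subgroup.subset_closure ⟨h1, h2⟩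
  rw [show k = wg * wh * k' from (mul_inv_cancel_left _ _).symm]
  refine mul_mem (mul_mem (mem hwgE (hgk.imp (comm_keeps hwg hvg).1 (comm_keeps hwg hvg).2))
    (mem hwhE (hhk.imp (comm_keeps hwh hvh).1 (comm_keeps hwh hvh).2))) (mem hk' (Or.inl ?_))
  obtain ⟨b, hb⟩ := fixesStd_iff.1 (mem_crossStab.1 (show incl2 k' ∈ crossStab from hk'.1))
  refine comm_of_incl ?_
  rw [incl2_t2, ← hb]
  refine t0_comm_of_octad b fun p => ?_
  have e : (a.1 : Equiv.Perm GolayPt) = permOf m.2.1.1 * (permOf m.2.2.1 * (b.1 : Equiv.Perm GolayPt)) := by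
    have h := congrArg incl2 (show k = wg * (wh * k') by rw [← mul_assoc]; exact (mul_inv_cancel_left _ _).symm)
    rw [map_mul, map_mul, hwg, hwh, ← hb, ← ha, mono_mul, mono_mul] at h
    exact congrArg (fun x : M24 × golayCode => ((x.1 : M24) : Equiv.Perm GolayPt)) (mono_injective h)
  set q := permOf m.2.1.1 (permOf m.2.2.1 p) with hq
  have h1 := hmO q
  have h2 := allBelow_spec _ _ himg (idx q) (idx_lt q)
  rw [beq_iff_eq] at h2
  rw [e, show ((permOf m.2.1.1 * (permOf m.2.2.1 * (b.1 : Equiv.Perm GolayPt)) : Equiv.Perm GolayPt)).symm q =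
    (b.1 : Equiv.Perm GolayPt).symm ((permOf m.2.2.1).symm ((permOf m.2.1.1).symm q)) from rfl] at h1
  rw [← h2, ← idx_permOf_symm hvg, ← idx_permOf_symm hvh, hq, Equiv.symm_apply_apply,
    Equiv.symm_apply_apply] at h1
  exact h1

/-- The difference of the two extensions is a sign change of a short list. -/
theorem diff_diag {c : ↥Spor.Co2}
    (hc : ∀ k ∈ N2, k * E8Cent.t2 = E8Cent.t2 * k → k * xElt = xElt * k → sigma2 * k * sigma2 ∈ N2 → c * k = k * c) :
    ∃ m ∈ fixedW, ∃ hm : ofMask m ∈ golayCode, incl2 c = Leech.diag ⟨ofMask m, hm⟩ := by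
  have hw := wit_checks
  simp only [Bool.and_eq_true, List.all_eq_true] at hw
  have use1 : ∀ g, fixOK g = true → ∃ (hv : validElt 5 24 g.1 = true) (hM : permOf g.1 ∈ M24)
      (hs : ofMask g.2.1 ∈ golayCode),
      incl2 c * mono (⟨permOf g.1, hM⟩, ⟨ofMask g.2.1, hs⟩) = mono (⟨permOf g.1, hM⟩, ⟨ofMask g.2.1, hs⟩) * incl2 c := by
    intro g hg
    simp only [fixOK, Bool.and_eq_true] at hg
    obtain ⟨hv, hM, hs, w, hw', hwE⟩ := wit_spec hg.1.1
    obtain ⟨hwN, hwS⟩ := mem_eStab.1 hwE
    refine ⟨hv, hM, hs, ?_⟩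
    rw [← hw', ← map_mul, ← map_mul, hc w hwN ((comm_keeps hw' hv).1 hg.1.2) ((comm_keeps hw' hv).2 hg.2)
      (by rwa [inv_eq_of_mul_eq_one_right sigma2_sq] at hwS)]
  have hB : ((evenB.map fun g => g.2.1).all fun b => inCode b) = true := by
    rw [List.all_eq_true]
    intro b hb
    obtain ⟨g, hg, rfl⟩ := List.mem_map.1 hb
    have := hw.1.1 g hg
    simp only [fixOK, edgeOK, elemOK, Bool.and_eq_true] at this
    exact this.1.1.1.1.1.2
  have hid : (evenB.all fun g => allBelow (fun i => Nat.beq (get 5 g.1.1 i) i) 24) = true := by decide +kernel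
  have hdiag : ∀ b (hb : b ∈ evenB.map fun g => g.2.1), incl2 c * Leech.diag ⟨ofMask b, mem_golay hB hb⟩ =
      Leech.diag ⟨ofMask b, mem_golay hB hb⟩ * incl2 c := by
    intro b hb
    obtain ⟨g, hg, rfl⟩ := List.mem_map.1 hb
    obtain ⟨hv, hM, hs, h⟩ := use1 g (hw.1.1 g hg)
    have h1 : permOf g.1 = 1 := by
      refine (eq_permOf hv fun p => ?_).symm
      have := allBelow_spec _ _ (List.all_eq_true.1 hid g hg) (idx p) (idx_lt p)
      rw [Nat.beq_eq] at this
      exact this.symm
    simp only [h1] at h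
    exact h
  have hs := sep_check
  simp only [Bool.and_eq_true] at hs
  obtain ⟨⟨⟨hsep, hsw⟩, haut⟩, hone⟩ := hs
  obtain ⟨a, ha, hmate⟩ := monomial_of hB hsep hdiag
  obtain ⟨e, he, hv, hπ⟩ := perm_eq_cand (i := ⟨swapPts.1, by decide⟩) (j := ⟨swapPts.2, by decide⟩) hsw hmate
  have hone' : (a.1 : Equiv.Perm GolayPt) = 1 := by
    have hcase : e = swapE.headD (0, 0) ∨ e ∈ swapE.tail := by
      revert he
      cases swapE <;> simp
    rcases hcase with h | h
    · rw [hπ]
      refine (eq_permOf hv fun p => ?_).symm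
      have := allBelow_spec _ _ hone (idx p) (idx_lt p)
      rw [Nat.beq_eq, ← h] at this
      exact this.symm
    · exfalso
      have hno := List.all_eq_true.1 haut e h
      simp only [Bool.not_eq_true', isAutB, ← Bool.not_eq_true, List.all_eq_true] at hno
      refine hno fun v hv' => ?_
      have hlt : imgMask e v.2 < 2 ^ 24 := mkMask_lt _ _
      rw [← ofMask_mem_iff hlt]
      have hmem := code_perm a.1.2 (ofMask_mem_golayCode (m := v.2) (inCode_iff.2 ?_))
      · convert hmem using 1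
        funext p
        rw [hπ]
        simp [ofMask, imgMask, testBit_mkMask, idx_lt, idx_permOf_symm hv]
      · exact List.all_eq_true.1 (show gBasis.all (fun v => memB v.2 codeList) = true by decide +kernel) v hv'
          |> memB_spec
  obtain ⟨m, hm, hme⟩ := mem_golayCode.1 a.2.2
  have hcd : incl2 c = Leech.diag a.2 := by
    rw [← ha, show a = ((1 : M24), a.2) from Prod.ext (Subtype.ext hone') rfl]
  have hpair : m.testBit 23 = false ∧ m.testBit 0 = false := by
    have hU := incl2_fix c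
    rw [hcd] at hU
    have key : ∀ p : GolayPt, Spor.vecU p = 4 → m.testBit (idx p) = false := by
      intro p hp
      have h := congrArg (fun v : leechLattice => (v : GolayPt → ℤ) p) hU
      simp only [diag_apply] at h
      change sgn (a.2 : GolayPt → ZMod 2) p * Spor.vecU p = Spor.vecU p at h
      rw [hp, hme.symm] at h
      cases hb : m.testBit (idx p)
      · rfl
      · simp [sgn, ofMask, hb] at h
    exact ⟨by simpa [Layers.idx_pair.1] using key none (by decide +kernel),
      by simpa [Layers.idx_pair.2] using key (some 0) (by decide +kernel)⟩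
  have hfix : fixedW.contains m = true := by
    have h := List.all_eq_true.1 fixed_check m hm
    simp only [hpair.1, hpair.2, Bool.false_or, Bool.or_eq_true, List.any_eq_true, Bool.not_eq_true'] at h
    rcases h with h | ⟨g, hg, hk⟩
    · exact h
    · exfalso
      refine Bool.eq_false_iff.1 hk (Co1Recog.allBelow_of fun i hi => ?_)
      obtain ⟨hv', hM, hs, h⟩ := use1 g (hw.1.2 g hg)
      rw [hcd, mono_diag] at h
      have h2' : pairMul ((1 : M24), a.2) (⟨permOf g.1, hM⟩, ⟨ofMask g.2.1, hs⟩) =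
            pairMul ((1 : M24), ⟨moved (permOf g.1) a.2, moved_mem hM a.2.2⟩) (⟨permOf g.1, hM⟩, ⟨ofMask g.2.1, hs⟩) :=
        mono_injective (by rw [← mono_mul, ← mono_mul]; exact h)
      have h2 := congrArg Subtype.val (congrArg (fun x : M24 × golayCode => x.2) h2')
      have h3 := congrFun h2 (pt ⟨i, hi⟩)
      simp only [pairMul, Pi.add_apply, add_left_inj, moved] at h3
      rw [hme.symm] at h3
      simp only [ofMask, idx_permOf_symm hv', idx_pt] at h3
      rw [beq_iff_eq]
      cases h4 : m.testBit i <;> cases h5 : m.testBit (get 5 g.1.2 i) <;> simp [h4, h5] at h3 ⊢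
  exact ⟨m, by simpa using hfix, hme ▸ a.2.2, by rw [hcd]; congr 1; exact Subtype.ext hme.symm⟩

/-- **The edge of the model.** -/
theorem edgeModel : EdgeModel N2 E8Cent.t2 sigma2 := by
  have hc := comm_checks
  simp only [Bool.and_eq_true, List.all_eq_true, Bool.not_eq_eq_eq_not, Bool.not_true] at hc
  obtain ⟨⟨⟨⟨⟨⟨⟨⟨⟨-, hr⟩, hr23⟩, hr0⟩, hx23⟩, hx0⟩, hσx⟩, htau⟩, htaux⟩, hfixW⟩ := hc
  obtain ⟨hvt, hMt, hst, hNt, -⟩ := elem_mono htau
  have hrmem := ofMask_mem_golayCode hr
  have hdd : ∀ (A B : golayCode), Leech.diag A * Leech.diag B = Leech.diag B * Leech.diag A := fun A B => by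
    rw [← diag_add, ← diag_add, add_comm]
  refine ⟨?_, Subgroup.mem_centralizer_singleton_iff.1 sigma2_mem, sigma2_sq,
    xElt, liftU _ (MulAction.mem_stabilizer_iff.1 hNt.2), liftU _ (diag_fixU hrmem hr23 hr0), ?_, ?_,
    comm_of_incl (hdd _ _), comm_of_incl ?_, ?_, comm_of_incl (hdd _ _), comm_of_incl (hdd _ _), ?_, ?_, gen_eStab⟩
  · exact mono_mem _
  · exact hNt.1
  · refine incl2_inj ?_
    rw [map_mul, map_mul, map_inv, incl2_lift, incl2_t2, incl2_x, t0_eq, eq_mul_inv_iff_mul_eq, mono_diag]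
    congr 2
    refine Subtype.ext (funext fun p => ?_)
    have := allBelow_spec _ _ htaux (idx p) (idx_lt p)
    rw [beq_iff_eq] at this
    show ofMask xW p = ofMask E8Cent.xMask ((permOf tauE).symm p)
    simp only [ofMask, idx_permOf_symm hvt, this]
  · rw [sig_incl, incl2_x]
    exact sS_comm xW_mem hσx
  · exact mono_mem _
  · show incl2 _ ∈ crossStab
    refine MulAction.mem_stabilizer_iff.2 ?_
    show incl2 _ • stdX = stdX
    have h3 := supp_check
    simp only [threeOK, Bool.and_eq_true, eqV_iff] at h3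
    replace h3 := h3.2
    let D := fun v : List ℤ => (List.range 24).map fun i => (if rW.testBit i then -1 else 1) * v.getD i 0
    have hstep : ∀ {l : List ℤ} {v : leechLattice}, l.length = 24 → toVec l = (v : GolayPt → ℤ) →
        (app sigMat (D l)).length = 24 ∧ toVec (app sigMat (D l)) =
          (((sS * Leech.diag ⟨ofMask rW, hrmem⟩) • v : leechLattice) : GolayPt → ℤ) := by
      intro l v hl hv
      have hD : toVec (D l) = ((Leech.diag ⟨ofMask rW, hrmem⟩ • v : leechLattice) : GolayPt → ℤ) := by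
        funext p
        rw [diag_apply, ← hv]
        show (D l).getD (idx p) 0 = _
        rw [List.getD_eq_getElem _ _ (by simp [D, idx_lt]), List.getElem_map, List.getElem_range]
        show _ = sgn (ofMask rW) p * l.getD (idx p) 0
        congr 1
        cases hb : rW.testBit (idx p) <;> simp [sgn, ofMask, hb]
      have hM : sigMat.length = 24 := by
        have := Co1Out.shapeOK_of_matOK sig_mat
        simp only [shapeOK, Bool.and_eq_true, Nat.beq_eq] at this
        exact this.1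
      exact ⟨by simp [app, hM], by rw [mul_smul]; exact sS_app (by simp [D]) hD⟩
    obtain ⟨l1, v1⟩ := hstep (length_axisL 23) (v := axis none)
      ((congrArg (fun n => toVec (axisL n)) Layers.idx_pair.1.symm).trans (toVec_axisL none))
    obtain ⟨l2, v2⟩ := hstep l1 v1
    obtain ⟨l3, v3⟩ := hstep l2 v2
    rw [show app sigMat (D (app sigMat (D (app sigMat (D (axisL 23)))))) = _ from h3] at v3
    rw [map_pow, map_mul, sig_incl, incl2_lift, pow_succ, pow_two, mul_smul, mul_smul, stdX, smul_xCross,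
      smul_xCross, smul_xCross]
    refine xCross_eq_of_mem (mem_xCross_axis.2 (mem_stdCross_iff.2
      ⟨pt ⟨r3End.1, by decide⟩, if r3End.2 then -1 else 1, by cases r3End.2 <;> simp, ?_⟩))
    refine Subtype.ext ?_
    rw [← v3]
    funext p
    rw [AddSubgroup.coe_zsmul, Pi.smul_apply, ← toVec_axisL, idx_pt, smul_eq_mul]
    show (List.map _ (axisL r3End.1)).getD (idx p) 0 = _ * (axisL r3End.1).getD (idx p) 0
    rw [List.getD_eq_getElem _ _ (by simp [length_axisL, idx_lt]), List.getD_eq_getElem _ _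
      (by simp [length_axisL, idx_lt]), List.getElem_map]
  · intro c _ hc'
    obtain ⟨m, hm, hmem, e⟩ := diff_diag hc'
    refine ⟨incl2_inj ?_, comm_of_incl ?_, comm_of_incl ?_⟩
    · rw [map_mul, map_one, e, ← diag_add]
      convert Leech.diag_zero using 2
      refine Subtype.ext (funext fun p => ?_)
      exact CharTwo.add_self_eq_zero _
    · rw [e, sig_incl]
      exact (sS_comm hmem (hfixW m hm).2).symm
    · rw [e, incl2_lift]
      exact hdd _ _

end Cfsg.Agent.Co2Recog.Edge
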