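import Mathlib

/-!
The relation on the stabiliser of an edge, forced by the two centralisers of commuting conjugates of an involution.
-/

set_option autoImplicit false

namespace Cfsg.Agent.Co2Recog.Edge

open Subgroup

variable {P : Type*} [Group P]

/-- The elements fixing the edge from the base coset through `σ`. -/
def eStab (N : Subgroup P) (σ : P) : Subgroup P := N ⊓ N.comap (MulAut.conj σ⁻¹).toMonoidHom

theorem mem_eStab {N : Subgroup P} {σ k : P} : k ∈ eStab N σ ↔ k ∈ N ∧ σ⁻¹ * k * σ ∈ N := by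
  refine and_congr Iff.rfl ?_
  show σ⁻¹ * k * σ⁻¹⁻¹ ∈ N ↔ _
  rw [inv_inv]

/-- What the model has to provide about the edge. -/
structure EdgeModel (N : Subgroup P) (t σ : P) : Prop where
  tN : t ∈ N
  sC : σ * t = t * σ
  sq : σ * σ = 1
  main : ∃ x τ r : P, τ ∈ N ∧ x = τ * t * τ⁻¹ ∧ x * t = t * x ∧ σ * x = x * σ ∧
    r ∈ N ∧ r * t = t * r ∧ r * x = x * r ∧ (σ * r) ^ 3 ∈ N ∧
    (∀ c : P, c * t = t * c → (∀ k ∈ N, k * t = t * k → k * x = x * k → σ * k * σ ∈ N → c * k = k * c) →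
      c * c = 1 ∧ c * σ = σ * c ∧ c * r = r * c) ∧
    eStab N σ ≤ Subgroup.closure {k | k ∈ eStab N σ ∧ (k * t = t * k ∨ k * x = x * k)}

variable {G : Type*} [Group G] {N : Subgroup P} {t σ : P}

/-- **The edge relation**, from the agreement of the two sides and the range of the centraliser side. -/
theorem edge_rel (M : EdgeModel N t σ) (fN : ↥N →* G) (fC : ↥(centralizer ({t} : Set P)) →* G)
    (hinj : Function.Injective fC) {z : G} (hz : fN ⟨t, M.tN⟩ = z)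
    (hrange : centralizer ({z} : Set G) ≤ fC.range)
    (hag : ∀ (a : P) (hC : a ∈ centralizer ({t} : Set P)) (hN : a ∈ N), fC ⟨a, hC⟩ = fN ⟨a, hN⟩)
    (hσ : σ ∈ centralizer ({t} : Set P)) (k : P) (hk : k ∈ N) (hk' : σ⁻¹ * k * σ ∈ N) :
    fN ⟨k, hk⟩ = fC ⟨σ, hσ⟩ * fN ⟨σ⁻¹ * k * σ, hk'⟩ * (fC ⟨σ, hσ⟩)⁻¹ := by
  obtain ⟨x, τ, r, hτ, hx, hxt, hσx, hr, hrt, hrx, h3, hC, hgen⟩ := M.main
  have sinv : σ⁻¹ = σ := inv_eq_of_mul_eq_one_right M.sq
  let D : Subgroup P := (centralizer ({t} : Set P)) ⊓ centralizer ({x} : Set P)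
  have memC : ∀ {a : P}, a ∈ (centralizer ({t} : Set P)) ↔ a * t = t * a := mem_centralizer_singleton_iff
  have memx : ∀ {a : P}, a ∈ centralizer ({x} : Set P) ↔ a * x = x * a := mem_centralizer_singleton_iff
  have down : ∀ {a : P}, a * x = x * a → τ⁻¹ * a * τ ∈ (centralizer ({t} : Set P)) := by
    intro a ha
    rw [memC]
    calc τ⁻¹ * a * τ * t = τ⁻¹ * (a * (τ * t * τ⁻¹)) * τ := by group
      _ = τ⁻¹ * (τ * t * τ⁻¹ * a) * τ := by rw [← hx, ha]
      _ = t * (τ⁻¹ * a * τ) := by group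
  -- the centraliser of the second involution, as seen through the two sides
  let f2 : ↥(centralizer ({x} : Set P)) →* G :=
    (MulAut.conj (fN ⟨τ, hτ⟩)).toMonoidHom.comp (fC.comp
      (((MulAut.conj τ⁻¹).toMonoidHom.comp (centralizer ({x} : Set P)).subtype).codRestrict (centralizer ({t} : Set P)) fun a => by
        show τ⁻¹ * (a : P) * τ⁻¹⁻¹ ∈ (centralizer ({t} : Set P))
        rw [inv_inv]; exact down (memx.1 a.2)))
  have f2_apply : ∀ (a : P) (ha : a * x = x * a),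
      f2 ⟨a, memx.2 ha⟩ = fN ⟨τ, hτ⟩ * fC ⟨τ⁻¹ * a * τ, down ha⟩ * (fN ⟨τ, hτ⟩)⁻¹ := by
    intro a ha
    show fN _ * fC _ * (fN _)⁻¹ = _
    congr 3
    exact Subtype.ext (congrArg (fun u => τ⁻¹ * a * u) (inv_inv τ))
  have f2_N : ∀ (a : P) (ha : a * x = x * a) (haN : a ∈ N), f2 ⟨a, memx.2 ha⟩ = fN ⟨a, haN⟩ := by
    intro a ha haN
    rw [f2_apply a ha, hag _ _ (mul_mem (mul_mem (inv_mem hτ) haN) hτ), ← map_inv, ← map_mul, ← map_mul]
    congr 1
    refine Subtype.ext ?_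
    simp only [Subgroup.coe_mul, Subgroup.coe_inv]
    group
  let g1 : ↥D →* G := fC.comp (Subgroup.inclusion inf_le_left)
  let g2 : ↥D →* G := f2.comp (Subgroup.inclusion inf_le_right)
  have hN12 : ∀ a : ↥D, (a : P) ∈ N → g1 a = g2 a := by
    intro a ha
    show fC ⟨(a : P), a.2.1⟩ = f2 ⟨(a : P), a.2.2⟩
    rw [hag _ _ ha, f2_N _ (memx.1 a.2.2) ha]
  let sD : ↥D := ⟨σ, hσ, memx.2 hσx⟩
  let rD : ↥D := ⟨r, memC.2 hrt, memx.2 hrx⟩
  let tD : ↥D := ⟨t, memC.2 rfl, memx.2 hxt.symm⟩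
  have hsD : sD * sD = 1 := Subtype.ext M.sq
  have g1t : g1 tD = z := by
    show fC ⟨t, _⟩ = z
    rw [hag _ _ M.tN, hz]
  set d := g1 sD * g2 sD with hd
  have hg2 : g2 sD = g1 sD * d := by
    rw [hd, ← mul_assoc, ← map_mul, hsD, map_one, one_mul]
  -- the difference commutes with the stabiliser of the edge
  have hcomm : ∀ a : ↥D, (a : P) ∈ N → σ * (a : P) * σ ∈ N → d * g1 a = g1 a * d := by
    intro a ha ha'
    have e1 : g1 (sD * a * sD) = g2 (sD * a * sD) := hN12 _ ha'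
    rw [map_mul, map_mul, map_mul, map_mul, ← hN12 a ha, hg2] at e1
    have hs : g1 sD * g1 sD = 1 := by rw [← map_mul, hsD, map_one]
    have hdd : g1 sD * d * g1 sD * d = 1 := by
      rw [mul_assoc (g1 sD * d), ← hg2, ← map_mul, hsD, map_one]
    have h1 : g1 a * g1 sD = d * g1 a * (g1 sD * d) := by
      have := congrArg (g1 sD * ·) e1
      simp only [← mul_assoc, hs, one_mul] at this
      rw [this]; simp only [mul_assoc]
    have h2 : g1 sD * d = d⁻¹ * g1 sD := by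
      rw [eq_inv_mul_iff_mul_eq, ← mul_assoc]
      have := congrArg (g1 sD * ·) hdd
      simp only [← mul_assoc, hs, one_mul, mul_one] at this
      exact this
    rw [h2, ← mul_assoc, mul_left_inj, eq_mul_inv_iff_mul_eq] at h1
    exact h1.symm
  have hdz : d * z = z * d := by
    rw [← g1t]
    refine hcomm tD M.tN ?_
    show σ * t * σ ∈ N
    rw [M.sC, mul_assoc, M.sq, mul_one]
    exact M.tN
  obtain ⟨⟨c, hcC⟩, hc⟩ := hrange (mem_centralizer_singleton_iff.2 hdz)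
  obtain ⟨hc2, hcs, hcr⟩ := hC c (memC.1 hcC) (fun a haN hat hax ha' => by
    have h := hcomm ⟨a, memC.2 hat, memx.2 hax⟩ haN ha'
    rw [← hc, show g1 ⟨a, memC.2 hat, memx.2 hax⟩ = fC ⟨a, memC.2 hat⟩ from rfl, ← map_mul, ← map_mul] at h
    exact congrArg Subtype.val (hinj h))
  have hds : d * g1 sD = g1 sD * d := by
    rw [← hc, show g1 sD = fC ⟨σ, hσ⟩ from rfl, ← map_mul, ← map_mul]
    exact congrArg fC (Subtype.ext hcs)
  have hdr : d * g1 rD = g1 rD * d := by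
    rw [← hc, show g1 rD = fC ⟨r, memC.2 hrt⟩ from rfl, ← map_mul, ← map_mul]
    exact congrArg fC (Subtype.ext hcr)
  have hd2 : d * d = 1 := by
    rw [← hc, ← map_mul, ← map_one fC]
    exact congrArg fC (Subtype.ext hc2)
  have hsame : g1 sD = g2 sD := by
    have e : g1 ((sD * rD) ^ 3) = g2 ((sD * rD) ^ 3) := hN12 _ (by simpa using h3)
    rw [map_pow, map_pow, map_mul, map_mul, ← hN12 rD hr, hg2,
      show g1 sD * d * g1 rD = g1 sD * g1 rD * d by rw [mul_assoc, hdr, mul_assoc],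
      ((show Commute d (g1 sD) from hds).mul_right hdr).symm.mul_pow] at e
    have hd3 : d ^ 3 = 1 := mul_left_cancel (a := (g1 sD * g1 rD) ^ 3) (by rw [← e, mul_one])
    have : d = 1 := by rwa [pow_succ, pow_two, hd2, one_mul] at hd3
    rw [hg2, this, mul_one]
  -- the relation
  let ψ : ↥(eStab N σ) →* G := (MulAut.conj (fC ⟨σ, hσ⟩)).toMonoidHom.comp (fN.comp
    (((MulAut.conj σ⁻¹).toMonoidHom.comp (eStab N σ).subtype).codRestrict N fun a => a.2.2))
  let ι : ↥(eStab N σ) →* G := fN.comp (Subgroup.inclusion inf_le_left)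
  have hψ : ∀ a : ↥(eStab N σ), ψ a =
      fC ⟨σ, hσ⟩ * fN ⟨σ⁻¹ * a * σ, (mem_eStab.1 a.2).2⟩ * (fC ⟨σ, hσ⟩)⁻¹ := by
    intro a
    show fC ⟨σ, hσ⟩ * fN _ * (fC ⟨σ, hσ⟩)⁻¹ = _
    congr 3
    exact Subtype.ext (congrArg (fun u => σ⁻¹ * (a : P) * u) (inv_inv σ))
  have hbase : ∀ a : ↥(eStab N σ), ((a : P) * t = t * a ∨ (a : P) * x = x * a) → ι a = ψ a := by
    intro a ha
    obtain ⟨haN, haS⟩ := mem_eStab.1 a.2
    rw [hψ]
    show fN ⟨(a : P), haN⟩ = _
    rcases ha with ha | ha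
    · have hsC : σ⁻¹ * (a : P) * σ ∈ (centralizer ({t} : Set P)) := mul_mem (mul_mem (inv_mem hσ) (memC.2 ha)) hσ
      rw [← hag _ (memC.2 ha) haN, ← hag _ hsC haS, ← map_inv, ← map_mul, ← map_mul]
      congr 1
      refine Subtype.ext ?_
      simp only [Subgroup.coe_mul, Subgroup.coe_inv]
      group
    · have hb : σ⁻¹ * (a : P) * σ * x = x * (σ⁻¹ * (a : P) * σ) :=
        (((show Commute σ x from hσx).inv_left.mul_left ha).mul_left hσx).eq
      have hs : fC ⟨σ, hσ⟩ = f2 ⟨σ, memx.2 hσx⟩ := hsame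
      rw [hs, ← f2_N _ ha haN, ← f2_N _ hb haS, ← map_inv, ← map_mul, ← map_mul]
      congr 1
      refine Subtype.ext ?_
      simp only [Subgroup.coe_mul, Subgroup.coe_inv]
      group
  have hkE : k ∈ eStab N σ := mem_eStab.2 ⟨hk, hk'⟩
  have hmap : eStab N σ ≤ (MonoidHom.eqLocus ι ψ).map (eStab N σ).subtype :=
    hgen.trans ((closure_le _).2 fun a ha => ⟨⟨a, ha.1⟩, hbase ⟨a, ha.1⟩ ha.2, rfl⟩)
  obtain ⟨a, ha, hak⟩ := hmap hkE
  rw [show a = ⟨k, hkE⟩ from Subtype.ext hak] at ha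
  exact (show ι _ = ψ _ from ha).trans (hψ _)

end Cfsg.Agent.Co2Recog.Edge
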